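import Groth.Agent.Lib.GenericStage.Basic
import Groth.Agent.Lib.EssFree.Generic
import Groth.Agent.Lib.GrpSchField.Field
import Groth.Agent.Lib.GrpSchField.Shear

/-!
Over a nonempty open of an integral base: groups of finite presentation are separated; shrinking opens.
-/

set_option autoImplicit false
set_option backward.isDefEq.respectTransparency false

universe u

open CategoryTheory CategoryTheory.Limits AlgebraicGeometry MonoidalCategory CartesianMonoidalCategory MonObj GrpObj

noncomputable section

namespace GrothLib.GenericStage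

variable {S : Scheme.{u}}

theorem prop_mono (P : MorphismProperty Scheme.{u}) [P.IsStableUnderBaseChange] {X : Scheme.{u}} (f : X ⟶ S)
    {U V : S.Opens} (h : U ≤ V) (hV : P (pullback.snd f V.ι)) : P (pullback.snd f U.ι) := by
  obtain ⟨q, -, hq⟩ := GrothLib.LimDesc.exists_isPullback_of_comp (r := S.homOfLE h) (s := V.ι)
    (q := pullback.fst f U.ι) (p := pullback.snd f U.ι) (h := f)
    (by rw [S.homOfLE_ι h]; exact IsPullback.of_hasPullback f U.ι) (IsPullback.of_hasPullback f V.ι)
  exact MorphismProperty.of_isPullback hq hV

theorem map_mono (P : MorphismProperty Scheme.{u}) [P.IsStableUnderBaseChange] {X Y : Over S} (u : X ⟶ Y)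
    {U V : S.Opens} (h : U ≤ V) (hV : P ((Over.pullback V.ι).map u).left) : P ((Over.pullback U.ι).map u).left := by
  let k : pullback Y.hom U.ι ⟶ pullback Y.hom V.ι :=
    pullback.lift (pullback.fst _ _) (pullback.snd _ _ ≫ S.homOfLE h)
      (by rw [Category.assoc, S.homOfLE_ι, pullback.condition])
  have hk : k ≫ pullback.fst Y.hom V.ι = pullback.fst Y.hom U.ι := pullback.lift_fst _ _ _
  have big := isPullback_pullback_map U.ι u
  rw [← hk] at big
  obtain ⟨q, -, hq⟩ := GrothLib.LimDesc.exists_isPullback_of_comp big (isPullback_pullback_map V.ι u)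
  exact MorphismProperty.of_isPullback hq hV

theorem essFree_mono {X : Scheme.{u}} (f : X ⟶ S)
    {U V : S.Opens} (h : U ≤ V) (hV : SGA3x.IsEssentiallyFree (pullback.snd f V.ι)) :
    SGA3x.IsEssentiallyFree (pullback.snd f U.ι) := by
  have h1 := GrothLib.EssFree.baseChange (S.homOfLE h) hV
  have h2 := GrothLib.EssFree.of_iso _ (pullback.congrHom rfl (S.homOfLE_ι h).symm ≪≫
    (pullbackLeftPullbackSndIso f V.ι (S.homOfLE h)).symm) h1
  convert h2 using 1
  simp only [Iso.trans_hom, pullback.congrHom_hom, Iso.symm_hom, Category.assoc,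
    pullbackLeftPullbackSndIso_inv_snd_snd]
  exact ((pullback.lift_snd _ _ _).trans (Category.comp_id _)).symm

/-- A group is separated as soon as its unit section is a closed immersion, after any base change. -/
theorem isClosedImmersion_eta_bc {T : Scheme.{u}} (t : T ⟶ S) (G : Over S) [GrpObj G]
    (h : IsClosedImmersion ((Over.pullback t).map η[G]).left) : IsClosedImmersion η[Red.bc t G].left := by
  have e : η[Red.bc t G] = Functor.LaxMonoidal.ε (Over.pullback t) ≫ (Over.pullback t).map η[G] := rfl
  rw [e, Over.comp_left]
  haveI : IsIso (Functor.LaxMonoidal.ε (Over.pullback t)).left := GrothLib.GrpSchField.isIso_left _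
  infer_instance

/-- A group of finite presentation over an integral scheme is separated over a nonempty open. -/
theorem exists_open_isSeparated [IsIntegral S] (G : Over S) [GrpObj G]
    [LocallyOfFiniteType G.hom] [QuasiCompact G.hom] [QuasiSeparated G.hom] :
    ∃ U : S.Opens, (U : Set S).Nonempty ∧ IsClosedImmersion ((Over.pullback U.ι).map η[G]).left := by
  haveI : QuasiCompact (η[G].left) := by
    haveI : QuasiCompact (η[G].left ≫ G.hom) := by
      rw [GrothLib.GrpSchField.eta_left_hom]; exact MorphismProperty.of_isIso _ (𝟙 S)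
    exact QuasiCompact.of_comp η[G].left G.hom
  haveI : LocallyOfFiniteType η[G].left := by
    haveI : LocallyOfFiniteType (η[G].left ≫ G.hom) := by
      rw [GrothLib.GrpSchField.eta_left_hom]; exact MorphismProperty.of_isIso _ (𝟙 S)
    exact locallyOfFiniteType_of_comp η[G].left G.hom
  haveI : QuasiSeparated η[G].left := by
    haveI : QuasiSeparated (η[G].left ≫ G.hom) := by
      rw [GrothLib.GrpSchField.eta_left_hom]; exact MorphismProperty.of_isIso _ (𝟙 S)
    exact QuasiSeparated.of_comp η[G].left G.hom
  refine exists_open_isClosedImmersion η[G] fun K _ t => ?_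
  haveI : IsSeparated (Red.bc t G).hom := GrothLib.GrpSchField.isSeparated _
  haveI : IsClosedImmersion (((Over.pullback t).map η[G]).left ≫ (Red.bc t G).hom) := by
    rw [Over.w ((Over.pullback t).map η[G])]
    show IsClosedImmersion (pullback.snd (𝟙 S) t)
    infer_instance
  exact IsClosedImmersion.of_comp _ (Red.bc t G).hom

end GrothLib.GenericStage
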